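import Groth.Agent.EtMil7.Presented
import Mathlib

/-!
# Finite presentation of glued modules over a relative Milnor square
-/

set_option autoImplicit false
set_option linter.style.haveILetI false
set_option backward.isDefEq.respectTransparency false
set_option backward.isDefEq.respectTransparency.types false

noncomputable section

universe u

open TensorProduct

namespace Groth.Agent.EtMilFP

attribute [local instance] Algebra.TensorProduct.rightAlgebra

/-- One side: the base change of the kernel of a presentation is finite. -/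
theorem finite_baseChange_ker {B' P D' T D L F : Type u} [CommRing B'] [CommRing P] [CommRing D'] [CommRing T] [CommRing D]
    [Algebra B' P] [Algebra P D'] [Algebra B' D'] [IsScalarTower B' P D'] [Module.FinitePresentation P D']
    [Algebra B' T] [Algebra T D] [Algebra D' D] [Algebra B' D] [IsScalarTower B' T D] [IsScalarTower B' D' D]
    [Algebra.IsPushout B' T D' D]
    [AddCommGroup L] [Module D' L] [Module P L] [IsScalarTower P D' L] [Module B' L] [IsScalarTower B' P L]
    [Module.Flat B' L] [Module.FinitePresentation D (D ⊗[D'] L)]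
    [AddCommGroup F] [Module P F] [Module B' F] [IsScalarTower B' P F] [Module.Finite P F]
    (π : F →ₗ[P] L) (hπ : Function.Surjective π) :
    Module.Finite (T ⊗[B'] P) ((T ⊗[B'] P) ⊗[P] LinearMap.ker π) := by
  let TP := T ⊗[B'] P
  letI : Algebra P D := ((algebraMap D' D).comp (algebraMap P D')).toAlgebra
  haveI : IsScalarTower P D' D := IsScalarTower.of_algebraMap_eq fun _ => rfl
  haveI : IsScalarTower B' P D := IsScalarTower.of_algebraMap_eq fun b => by
    rw [IsScalarTower.algebraMap_apply B' D' D, IsScalarTower.algebraMap_apply B' P D']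
    rfl
  letI : Algebra TP D := (Algebra.TensorProduct.lift (IsScalarTower.toAlgHom B' T D)
    (IsScalarTower.toAlgHom B' P D) fun _ _ => Commute.all _ _).toAlgebra
  haveI : IsScalarTower T TP D := IsScalarTower.of_algebraMap_eq fun t => by
    show _ = Algebra.TensorProduct.lift _ _ _ (t ⊗ₜ[B'] (1 : P))
    simp
  haveI : IsScalarTower P TP D := IsScalarTower.of_algebraMap_eq fun p => by
    show _ = Algebra.TensorProduct.lift _ _ _ ((1 : T) ⊗ₜ[B'] p)
    simp
  haveI : Algebra.IsPushout B' D' T D := Algebra.IsPushout.symm ‹_›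
  haveI hPo : Algebra.IsPushout P D' TP D :=
    (Algebra.IsPushout.comp_iff B' P T TP (T := D') (T' := D)).1 ‹_›
  haveI : Algebra.IsPushout P TP D' D := Algebra.IsPushout.symm hPo
  haveI : Module.FinitePresentation TP D :=
    FinitePresentation.of_isBaseChange (IsScalarTower.toAlgHom P D' D).toLinearMap (Algebra.IsPushout.out (R := P) (S := TP))
  haveI : Module.FinitePresentation TP (D ⊗[D'] L) := Module.FinitePresentation.trans TP (D ⊗[D'] L) D
  haveI : Module.FinitePresentation TP (TP ⊗[P] L) :=
    Module.FinitePresentation.of_equiv (Algebra.IsPushout.cancelBaseChange P TP D' D L)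
  have hinj : Function.Injective ((LinearMap.ker π).subtype.baseChange TP) := by
    have h0 : Function.Injective (((LinearMap.ker π).subtype.restrictScalars B').lTensor T) :=
      Groth.Agent.W4Lib.lTensor_injective_of_flat_quotient (LinearMap.ker π).injective_subtype
        (g := π.restrictScalars B') (LinearMap.exact_subtype_ker_map π) hπ T
    let eK := (Algebra.IsPushout.cancelBaseChange B' T P TP (LinearMap.ker π)).symm
    let eF := (Algebra.IsPushout.cancelBaseChange B' T P TP F).symm
    have hcomm : ∀ z, (LinearMap.ker π).subtype.baseChange TP (eK z) =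
        eF (((LinearMap.ker π).subtype.restrictScalars B').lTensor T z) := fun z => by
      induction z using TensorProduct.induction_on with
      | zero => simp
      | add a b ha hb => simp only [map_add, ha, hb]
      | tmul t k => simp [eK, eF, Algebra.IsPushout.cancelBaseChange_symm_tmul]
    intro x y hxy
    obtain ⟨x, rfl⟩ := eK.surjective x
    obtain ⟨y, rfl⟩ := eK.surjective y
    rw [hcomm, hcomm] at hxy
    rw [h0 (eF.injective hxy)]
  have hex : Function.Exact ((LinearMap.ker π).subtype.baseChange TP) (π.baseChange TP) :=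
    lTensor_exact TP (LinearMap.exact_subtype_ker_map π) hπ
  have hfg := Module.FinitePresentation.fg_ker (π.baseChange TP) (LinearMap.lTensor_surjective TP hπ)
  rw [LinearMap.exact_iff.mp hex] at hfg
  haveI : Module.Finite TP (LinearMap.range ((LinearMap.ker π).subtype.baseChange TP)) :=
    Module.Finite.iff_fg.mpr hfg
  exact Module.Finite.equiv (LinearEquiv.ofInjective _ hinj).symm

open Groth.Agent.EtMil7 in
/-- A flat base change of a fibre square is a fibre square. -/
theorem isFibreSquare_flat {B' B A' A P : Type u} [CommRing B'] [CommRing B] [CommRing A'] [CommRing A] [CommRing P]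
    [Algebra B' B] [Algebra B' A'] [Algebra B A] [Algebra A' A] [Algebra B' A]
    [IsScalarTower B' B A] [IsScalarTower B' A' A] [Algebra B' P] [Module.Flat B' P]
    (hsq : EtMil.IsFibreSquare B' B A' A) :
    letI : Algebra (B ⊗[B'] P) (A ⊗[B'] P) :=
      (Algebra.TensorProduct.map (IsScalarTower.toAlgHom B' B A) (AlgHom.id B' P)).toAlgebra
    letI : Algebra (A' ⊗[B'] P) (A ⊗[B'] P) :=
      (Algebra.TensorProduct.map (IsScalarTower.toAlgHom B' A' A) (AlgHom.id B' P)).toAlgebra
    ∃ (_ : IsScalarTower P (B ⊗[B'] P) (A ⊗[B'] P)) (_ : IsScalarTower P (A' ⊗[B'] P) (A ⊗[B'] P)),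
      EtMil.IsFibreSquare P (B ⊗[B'] P) (A' ⊗[B'] P) (A ⊗[B'] P) := by
  letI : Algebra (B ⊗[B'] P) (A ⊗[B'] P) :=
    (Algebra.TensorProduct.map (IsScalarTower.toAlgHom B' B A) (AlgHom.id B' P)).toAlgebra
  letI : Algebra (A' ⊗[B'] P) (A ⊗[B'] P) :=
    (Algebra.TensorProduct.map (IsScalarTower.toAlgHom B' A' A) (AlgHom.id B' P)).toAlgebra
  have hB : ∀ x, algebraMap (B ⊗[B'] P) (A ⊗[B'] P) x = (IsScalarTower.toAlgHom B' B A).toLinearMap.rTensor P x :=
    fun x => by
      induction x using TensorProduct.induction_on with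
      | zero => simp
      | add a b ha hb => simp only [map_add, ha, hb]
      | tmul b p => rfl
  have hA : ∀ x, algebraMap (A' ⊗[B'] P) (A ⊗[B'] P) x = (IsScalarTower.toAlgHom B' A' A).toLinearMap.rTensor P x :=
    fun x => by
      induction x using TensorProduct.induction_on with
      | zero => simp
      | add a b ha hb => simp only [map_add, ha, hb]
      | tmul b p => rfl
  refine ⟨IsScalarTower.of_algebraMap_eq fun p => ?_, IsScalarTower.of_algebraMap_eq fun p => ?_, fun a => ?_,
    fun x y hxy => ?_⟩
  · show (1 : A) ⊗ₜ[B'] p = algebraMap (B ⊗[B'] P) (A ⊗[B'] P) ((1 : B) ⊗ₜ p)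
    rw [hB]; simp
  · show (1 : A) ⊗ₜ[B'] p = algebraMap (A' ⊗[B'] P) (A ⊗[B'] P) ((1 : A') ⊗ₜ p)
    rw [hA]; simp
  · obtain ⟨z, hz⟩ := LinearMap.rTensor_surjective P (g := (IsScalarTower.toAlgHom B' A' A).toLinearMap) hsq.1 a
    exact ⟨z, (hA z).trans hz⟩
  · obtain ⟨l, h1, h2⟩ := exists_of_rTensor_eq (isWeakSquare hsq) P x y ((hB x).symm.trans (hxy.trans (hA y)))
    exact ⟨l, ⟨h1, h2⟩, fun l' hl' => flat_injective_pair hsq P (Prod.ext (hl'.1.trans h1.symm) (hl'.2.trans h2.symm))⟩

open Groth.Agent.EtMil7 in
/-- A module over a finite presented quotient of a flat algebra, finitely presented on both sides. -/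
theorem finitePresentation_of_sides {B' B A' A P D' D C' L : Type u} [CommRing B'] [CommRing B] [CommRing A'] [CommRing A]
    [CommRing P] [CommRing D'] [CommRing D] [CommRing C']
    [Algebra B' B] [Algebra B' A'] [Algebra B A] [Algebra A' A] [Algebra B' A]
    [IsScalarTower B' B A] [IsScalarTower B' A' A] (hsq : EtMil.IsFibreSquare B' B A' A)
    [Algebra B' P] [Module.Flat B' P] [Algebra P D'] [Algebra B' D'] [IsScalarTower B' P D']
    [Module.FinitePresentation P D'] (hψ : Function.Surjective (algebraMap P D'))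
    [Algebra B D] [Algebra D' D] [Algebra B' D] [IsScalarTower B' B D] [IsScalarTower B' D' D] [Algebra.IsPushout B' B D' D]
    [Algebra A' C'] [Algebra D' C'] [Algebra B' C'] [IsScalarTower B' A' C'] [IsScalarTower B' D' C']
    [Algebra.IsPushout B' A' D' C']
    [AddCommGroup L] [Module D' L] [Module P L] [IsScalarTower P D' L] [Module B' L] [IsScalarTower B' P L]
    [Module.Flat B' L] [Module.Finite D' L] [Module.FinitePresentation D (D ⊗[D'] L)]
    [Module.FinitePresentation C' (C' ⊗[D'] L)] : Module.FinitePresentation D' L := by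
  haveI : Module.Finite P L := Module.Finite.trans D' L
  obtain ⟨m, π, hπ⟩ := Module.Finite.exists_fin' P L
  haveI : Module.Finite (B ⊗[B'] P) ((B ⊗[B'] P) ⊗[P] LinearMap.ker π) :=
    finite_baseChange_ker (D' := D') (D := D) π hπ
  haveI : Module.Finite (A' ⊗[B'] P) ((A' ⊗[B'] P) ⊗[P] LinearMap.ker π) :=
    finite_baseChange_ker (D' := D') (D := C') π hπ
  letI : Algebra (B ⊗[B'] P) (A ⊗[B'] P) :=
    (Algebra.TensorProduct.map (IsScalarTower.toAlgHom B' B A) (AlgHom.id B' P)).toAlgebra
  letI : Algebra (A' ⊗[B'] P) (A ⊗[B'] P) :=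
    (Algebra.TensorProduct.map (IsScalarTower.toAlgHom B' A' A) (AlgHom.id B' P)).toAlgebra
  obtain ⟨hP₁, hP₂, hsqP⟩ := isFibreSquare_flat (P := P) hsq
  haveI := hP₁
  haveI := hP₂
  haveI : Module.Finite P (LinearMap.ker π) := finite_of_pair hsqP _
  haveI : Module.FinitePresentation P L :=
    Module.finitePresentation_of_surjective π hπ (Module.Finite.iff_fg.mp this)
  refine FinitePresentation.of_isBaseChange (A := D') (LinearMap.id : L →ₗ[P] L) ⟨fun x y hxy => ?_, fun l => ?_⟩
  · obtain ⟨a, rfl⟩ := exists_one_tmul hψ x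
    obtain ⟨b, rfl⟩ := exists_one_tmul hψ y
    simp at hxy
    rw [hxy]
  · exact ⟨(1 : D') ⊗ₜ l, by simp⟩

end Groth.Agent.EtMilFP
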